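import Mathlib

set_option autoImplicit false

namespace Cfsg.Agent.Lib.KnownSimple.SylowPerm

open Equiv

universe u

variable {Ω : Type u}

/-- Colour preserving permutations. -/
def colourGroup {C : Type} (c : Ω → C) : Subgroup (Perm Ω) where
  carrier := {σ | ∀ x, c (σ x) = c x}
  mul_mem' := by
    intro a b ha hb x
    rw [Perm.mul_apply, ha, hb]
  one_mem' := fun x => rfl
  inv_mem' := by
    intro a ha x
    have := ha (a⁻¹ x)
    simpa using this.symm

theorem mem_colourGroup {C : Type} {c : Ω → C} {σ : Perm Ω} :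
    σ ∈ colourGroup c ↔ ∀ x, c (σ x) = c x := Iff.rfl

/-- `P` is a maximal `2`-subgroup of the colour group. -/
structure MaxIn {C : Type} (c : Ω → C) (P : Subgroup (Perm Ω)) : Prop where
  isP : IsPGroup 2 P
  le : P ≤ colourGroup c
  max : ∀ Q : Subgroup (Perm Ω), IsPGroup 2 Q → Q ≤ colourGroup c → P ≤ Q → Q ≤ P

variable {C : Type} {c : Ω → C} {P : Subgroup (Perm Ω)}

theorem mem_of_rel [Finite Ω] (hP : MaxIn c P) (r : Ω → Ω → Prop)
    (hrefl : ∀ a, r a a) (hsymm : ∀ a b, r a b → r b a) (htrans : ∀ a b d, r a b → r b d → r a d)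
    (hsize : ∀ a b d, r a b → r a d → b = a ∨ d = a ∨ b = d)
    (hinv : ∀ p ∈ P, ∀ a b, r a b → r (p a) (p b))
    (hcol : ∀ a b, r a b → c a = c b) (σ : Perm Ω) (hσ : ∀ a, r a (σ a)) : σ ∈ P := by
  let K : Subgroup (Perm Ω) :=
    { carrier := {τ | ∀ a, r a (τ a)}
      mul_mem' := fun {a b} ha hb x => htrans _ _ _ (hb x) (ha (b x))
      one_mem' := fun x => hrefl x
      inv_mem' := by
        intro a ha x
        have := ha (a⁻¹ x)
        have h2 : a (a⁻¹ x) = x := by simp
        rw [h2] at this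
        exact hsymm _ _ this }
  have hK2 : ∀ τ ∈ K, τ * τ = 1 := by
    intro τ hτ
    ext a
    show τ (τ a) = a
    by_cases h : τ a = a
    · rw [h, h]
    · have h1 : r a (τ a) := hτ a
      have h2 : r (τ a) (τ (τ a)) := hτ (τ a)
      have h3 : r a (τ (τ a)) := htrans _ _ _ h1 h2
      rcases hsize _ _ _ h1 h3 with h4 | h4 | h4
      · exact absurd h4 h
      · exact h4
      · exact absurd (τ.injective h4).symm h
  have hKP : IsPGroup 2 K := by
    rintro ⟨τ, hτ⟩
    refine ⟨1, ?_⟩
    apply Subtype.ext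
    show τ ^ (2 ^ 1) = 1
    rw [pow_one, pow_two]
    exact hK2 τ hτ
  have hnorm : P ≤ Subgroup.normalizer (K : Set (Perm Ω)) := by
    intro p hp
    rw [Subgroup.mem_normalizer_iff]
    intro τ
    constructor
    · intro hτ a
      have := hinv p hp _ _ (hτ (p⁻¹ a))
      simpa using this
    · intro hτ a
      have := hinv p⁻¹ (P.inv_mem hp) _ _ (hτ (p a))
      simpa using this
  have hsup := IsPGroup.to_sup_of_normal_right' hP.isP hKP hnorm
  have hle : P ⊔ K ≤ colourGroup c := by
    refine sup_le hP.le ?_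
    intro τ hτ x
    exact (hcol _ _ (hτ x)).symm
  have := hP.max _ hsup hle le_sup_left
  exact this (Subgroup.mem_sup_right (show σ ∈ K from hσ))

/-- The standard fact on transitive `2`-groups, phrased for stabilisers: there is a block of size two through
any point that is moved. -/
theorem exists_block [Finite Ω] (hP : IsPGroup 2 P) (x : Ω) (hx : ∃ p ∈ P, p x ≠ x) :
    ∃ u ∈ P, u x ≠ x ∧ u (u x) = x ∧ ∀ s ∈ P, s x = x → (u * s * u⁻¹) x = x ∧ (u⁻¹ * s * u) x = x := by
  classical
  have hnil : Group.IsNilpotent P := hP.isNilpotent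
  let S : Subgroup P := MulAction.stabilizer P x
  have hmemS : ∀ s : P, s ∈ S ↔ (s : Perm Ω) x = x := fun s => Iff.rfl
  have hS : S < ⊤ := by
    obtain ⟨p, hp, hpx⟩ := hx
    refine lt_top_iff_ne_top.mpr ?_
    intro h
    have : (⟨p, hp⟩ : P) ∈ S := by rw [h]; trivial
    exact hpx ((hmemS _).mp this)
  have hlt := Group.normalizerCondition_of_isNilpotent S hS
  obtain ⟨u₀, hu₀N, hu₀S⟩ := SetLike.exists_of_lt hlt
  obtain ⟨k, hk⟩ := hP u₀
  have hex : ∃ j, u₀ ^ (2 ^ j) ∈ S := ⟨k, by rw [hk]; exact S.one_mem⟩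
  classical
  let j₀ := Nat.find hex
  have hj₀ : u₀ ^ (2 ^ j₀) ∈ S := Nat.find_spec hex
  have hj₀0 : j₀ ≠ 0 := by
    intro h
    rw [h] at hj₀
    simp only [pow_zero, pow_one] at hj₀
    exact hu₀S hj₀
  obtain ⟨j₁, hj₁⟩ : ∃ j₁, j₀ = j₁ + 1 := Nat.exists_eq_succ_of_ne_zero hj₀0
  have hnot : u₀ ^ (2 ^ j₁) ∉ S := Nat.find_min hex (by omega)
  let u : P := u₀ ^ (2 ^ j₁)
  have huN : u ∈ Subgroup.normalizer (S : Set P) := Subgroup.pow_mem _ hu₀N _
  have hu2 : u * u ∈ S := by
    have : u * u = u₀ ^ (2 ^ j₀) := by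
      rw [hj₁, pow_succ 2 j₁, pow_mul]
      exact (pow_two _).symm
    rw [this]; exact hj₀
  refine ⟨u, u.2, fun h => hnot ((hmemS _).mpr h), (hmemS _).mp hu2, ?_⟩
  intro s hs hsx
  have hsS : (⟨s, hs⟩ : P) ∈ S := (hmemS _).mpr hsx
  rw [Subgroup.mem_normalizer_iff] at huN
  constructor
  · have := (huN _).mp hsS
    exact (hmemS _).mp this
  · have huN' : u⁻¹ ∈ Subgroup.normalizer (S : Set P) :=
      Subgroup.inv_mem _ (by rw [Subgroup.mem_normalizer_iff]; exact huN)
    rw [Subgroup.mem_normalizer_iff] at huN'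
    have := (huN' _).mp hsS
    rw [inv_inv] at this
    exact (hmemS _).mp this

variable [DecidableEq Ω]

/-- In a `2`-group of permutations, there are no two overlapping transpositions. -/
theorem no_three [Finite Ω] (hP : IsPGroup 2 P) {a b d : Ω} (hab : a ≠ b) (had : a ≠ d) (hbd : b ≠ d)
    (h1 : swap a b ∈ P) (h2 : swap a d ∈ P) : False := by
  haveI := Fintype.ofFinite Ω
  have h3 : Perm.IsThreeCycle (swap a b * swap a d) := Perm.isThreeCycle_swap_mul_swap_same hab had hbd
  have hm : swap a b * swap a d ∈ P := P.mul_mem h1 h2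
  obtain ⟨k, hk⟩ := hP ⟨_, hm⟩
  have hk' : (swap a b * swap a d) ^ (2 ^ k) = 1 := by
    have := congrArg Subtype.val hk
    simpa using this
  have h4 := orderOf_dvd_of_pow_eq_one hk'
  rw [h3.orderOf] at h4
  have := (Nat.Prime.dvd_of_dvd_pow Nat.prime_three h4)
  omega

theorem exists_partner [Finite Ω] (hP : MaxIn c P) (x : Ω) (hx : ∃ p ∈ P, p x ≠ x) :
    ∃ y, y ≠ x ∧ swap x y ∈ P := by
  obtain ⟨u, huP, hux, huu, hun⟩ := exists_block hP.isP x hx
  refine ⟨u x, hux, ?_⟩
  have key1 : ∀ p ∈ P, ∀ q ∈ P, p x = q x → p (u x) = q (u x) := by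
    intro p hp q hq hpq
    have hs : q⁻¹ * p ∈ P := P.mul_mem (P.inv_mem hq) hp
    have hsx : (q⁻¹ * p) x = x := by simp [hpq]
    have := (hun _ hs hsx).2
    have h2 : (u⁻¹ * (q⁻¹ * p) * u) x = x := this
    have h3 : (q⁻¹ * p) (u x) = u x := by
      have : u ((u⁻¹ * (q⁻¹ * p) * u) x) = u x := by rw [h2]
      simpa using this
    have : q ((q⁻¹ * p) (u x)) = q (u x) := by rw [h3]
    simpa using this
  have key2 : ∀ p ∈ P, ∀ q ∈ P, p (u x) = q x → p x = q (u x) := by
    intro p hp q hq hpq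
    have := key1 (p * u) (P.mul_mem hp huP) q hq (by simpa using hpq)
    simpa [huu] using this
  have hcu : c (u x) = c x := hP.le huP x
  have := mem_of_rel hP (fun a b => a = b ∨ ∃ p ∈ P, a = p x ∧ b = p (u x))
    (fun a => Or.inl rfl)
    (by
      rintro a b (rfl | ⟨p, hp, rfl, rfl⟩)
      · exact Or.inl rfl
      · exact Or.inr ⟨p * u, P.mul_mem hp huP, rfl, by simp [huu]⟩)
    (by
      rintro a b d (rfl | ⟨p, hp, rfl, rfl⟩) (h | ⟨q, hq, h1, rfl⟩)
      · exact Or.inl h
      · exact Or.inr ⟨q, hq, h1, rfl⟩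
      · subst h; exact Or.inr ⟨p, hp, rfl, rfl⟩
      · exact Or.inl (key2 p hp q hq h1))
    (by
      rintro a b d (rfl | ⟨p, hp, rfl, rfl⟩) (h | ⟨q, hq, h1, rfl⟩)
      · exact Or.inl rfl
      · exact Or.inl rfl
      · exact Or.inr (Or.inl h.symm)
      · exact Or.inr (Or.inr (key1 p hp q hq h1)))
    (by
      rintro t ht a b (rfl | ⟨p, hp, rfl, rfl⟩)
      · exact Or.inl rfl
      · exact Or.inr ⟨t * p, P.mul_mem ht hp, rfl, rfl⟩)
    (by
      rintro a b (rfl | ⟨p, hp, rfl, rfl⟩)
      · rfl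
      · rw [hP.le hp x, hP.le hp (u x), hcu])
    (swap x (u x))
    (by
      intro a
      by_cases h1 : a = x
      · subst h1
        rw [swap_apply_left]
        exact Or.inr ⟨1, P.one_mem, rfl, rfl⟩
      · by_cases h2 : a = u x
        · subst h2
          rw [swap_apply_right]
          exact Or.inr ⟨u, huP, rfl, huu.symm⟩
        · rw [swap_apply_of_ne_of_ne h1 h2]
          exact Or.inl rfl)
  exact this

theorem swap_mem_of_fixed [Finite Ω] (hP : MaxIn c P) {a b : Ω} (hc : c a = c b)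
    (ha : ∀ p ∈ P, p a = a) (hb : ∀ p ∈ P, p b = b) : swap a b ∈ P := by
  apply mem_of_rel hP (fun x y => x = y ∨ (x = a ∧ y = b) ∨ (x = b ∧ y = a))
  · exact fun x => Or.inl rfl
  · rintro x y (rfl | ⟨rfl, rfl⟩ | ⟨rfl, rfl⟩)
    · exact Or.inl rfl
    · exact Or.inr (Or.inr ⟨rfl, rfl⟩)
    · exact Or.inr (Or.inl ⟨rfl, rfl⟩)
  · rintro x y z (rfl | ⟨rfl, rfl⟩ | ⟨rfl, rfl⟩) (h | ⟨h1, rfl⟩ | ⟨h1, rfl⟩)
    · exact Or.inl h
    · exact Or.inr (Or.inl ⟨h1, rfl⟩)
    · exact Or.inr (Or.inr ⟨h1, rfl⟩)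
    · subst h; exact Or.inr (Or.inl ⟨rfl, rfl⟩)
    · exact Or.inr (Or.inl ⟨rfl, rfl⟩)
    · exact Or.inl rfl
    · subst h; exact Or.inr (Or.inr ⟨rfl, rfl⟩)
    · exact Or.inl rfl
    · exact Or.inr (Or.inr ⟨rfl, rfl⟩)
  · rintro x y z (rfl | ⟨rfl, rfl⟩ | ⟨rfl, rfl⟩) (h | ⟨h1, rfl⟩ | ⟨h1, rfl⟩) <;> simp_all
  · rintro p hp x y (rfl | ⟨rfl, rfl⟩ | ⟨rfl, rfl⟩)
    · exact Or.inl rfl
    · rw [ha p hp, hb p hp]; exact Or.inr (Or.inl ⟨rfl, rfl⟩)
    · rw [ha p hp, hb p hp]; exact Or.inr (Or.inr ⟨rfl, rfl⟩)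
  · rintro x y (rfl | ⟨rfl, rfl⟩ | ⟨rfl, rfl⟩)
    · rfl
    · exact hc
    · exact hc.symm
  · intro x
    by_cases h1 : x = a
    · subst h1; rw [swap_apply_left]
      by_cases h : x = b
      · exact Or.inl h
      · exact Or.inr (Or.inl ⟨rfl, rfl⟩)
    · by_cases h2 : x = b
      · subst h2; rw [swap_apply_right]; exact Or.inr (Or.inr ⟨rfl, rfl⟩)
      · rw [swap_apply_of_ne_of_ne h1 h2]; exact Or.inl rfl

omit [DecidableEq Ω] in
/-- The main theorem: a maximal `2`-subgroup of a colour group is self-normalising in it. -/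
theorem mem_of_mem_normalizer_aux : ∀ (n : ℕ) (Ω : Type u) [Finite Ω] (C : Type) (c : Ω → C)
    (P : Subgroup (Perm Ω)) (_ : MaxIn c P) (g : Perm Ω) (_ : g ∈ colourGroup c)
    (_ : g ∈ Subgroup.normalizer (P : Set (Perm Ω))), Nat.card Ω = n → g ∈ P := by
  intro n
  induction n using Nat.strong_induction_on with
  | _ n ih =>
  intro Ω _ C c P hP g hgc hgn hn
  classical
  by_cases hpair : ∃ a b : Ω, a ≠ b ∧ swap a b ∈ P
  · obtain ⟨a₀, b₀, hab₀, hs₀⟩ := hpair
    -- the relation
    let rel : Ω → Ω → Prop := fun a b => a = b ∨ swap a b ∈ P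
    have rel_symm : ∀ a b, rel a b → rel b a := by
      rintro a b (h | h)
      · exact Or.inl h.symm
      · exact Or.inr (by rwa [swap_comm])
    have rel_trans : ∀ a b d, rel a b → rel b d → rel a d := by
      rintro a b d (rfl | h1) h2
      · exact h2
      · rcases h2 with rfl | h2
        · exact Or.inr h1
        · by_cases had : a = d
          · exact Or.inl had
          · by_cases hab : a = b
            · subst hab; exact Or.inr h2
            · by_cases hbd : b = d
              · subst hbd; exact Or.inr h1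
              · exact absurd (no_three hP.isP (Ne.symm hab) hbd had (by rwa [swap_comm]) h2) id
    let s : Setoid Ω := ⟨rel, ⟨fun a => Or.inl rfl, fun {a b} => rel_symm a b, fun {a b d} => rel_trans a b d⟩⟩
    let q : Ω → Quotient s := Quotient.mk s
    have hq : ∀ a b, q a = q b ↔ rel a b := fun a b => Quotient.eq (r := s)
    have hqsurj : Function.Surjective q := Quotient.mk_surjective
    -- the conjugation property
    have hconj : ∀ t : Perm Ω, (∀ h ∈ P, t * h * t⁻¹ ∈ P) → ∀ a b, rel a b → rel (t a) (t b) := by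
      rintro t ht a b (rfl | h)
      · exact Or.inl rfl
      · right
        rw [swap_apply_apply]
        exact ht _ h
    have hPconj : ∀ p ∈ P, ∀ h ∈ P, p * h * p⁻¹ ∈ P := fun p hp h hh =>
      P.mul_mem (P.mul_mem hp hh) (P.inv_mem hp)
    have hgn' := hgn
    rw [Subgroup.mem_normalizer_iff] at hgn'
    have hgconj : ∀ h ∈ P, g * h * g⁻¹ ∈ P := fun h hh => (hgn' h).mp hh
    have hgconj' : ∀ h ∈ P, g⁻¹ * h * g⁻¹⁻¹ ∈ P := by
      intro h hh
      rw [hgn']
      simpa [mul_assoc] using hh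
    -- flags
    let moved : Ω → Prop := fun x => ∃ y, y ≠ x ∧ swap x y ∈ P
    let fl : Ω → Bool := fun x => decide (moved x)
    have fl_rel : ∀ a b, rel a b → fl a = fl b := by
      rintro a b (rfl | h)
      · rfl
      · by_cases hab : a = b
        · rw [hab]
        · have h1 : moved a := ⟨b, Ne.symm hab, h⟩
          have h2 : moved b := ⟨a, hab, by rwa [swap_comm]⟩
          simp only [fl, h1, h2]
    have c_rel : ∀ a b, rel a b → c a = c b := by
      rintro a b (rfl | h)
      · rfl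
      · have := hP.le h a
        rw [swap_apply_left] at this
        exact this.symm
    let c' : Quotient s → C × Bool := Quotient.lift (fun x => (c x, fl x)) (by
      intro a b h
      exact Prod.ext (c_rel a b h) (fl_rel a b h))
    have hc' : ∀ a, c' (q a) = (c a, fl a) := fun a => rfl
    have moved_conj : ∀ t : Perm Ω, (∀ h ∈ P, t * h * t⁻¹ ∈ P) → ∀ a, moved a → moved (t a) := by
      rintro t ht a ⟨y, hy, hs⟩
      refine ⟨t y, fun h => hy (t.injective h), ?_⟩
      rw [swap_apply_apply]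
      exact ht _ hs
    have fl_conj : ∀ t : Perm Ω, (∀ h ∈ P, t * h * t⁻¹ ∈ P) → (∀ h ∈ P, t⁻¹ * h * t⁻¹⁻¹ ∈ P) → ∀ a, fl (t a) = fl a := by
      intro t ht ht' a
      have : moved (t a) ↔ moved a := by
        constructor
        · intro h
          have := moved_conj t⁻¹ ht' _ h
          simpa using this
        · exact moved_conj t ht a
      simp only [fl, this]
    -- covers
    let Covers : Perm Ω → Perm (Quotient s) → Prop := fun σ τ => ∀ a, τ (q a) = q (σ a)
    have cov_mul : ∀ σ σ' τ τ', Covers σ τ → Covers σ' τ' → Covers (σ * σ') (τ * τ') := by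
      intro σ σ' τ τ' h h' a
      show τ (τ' (q a)) = q (σ (σ' a))
      rw [h', h]
    have cov_one : Covers 1 1 := fun a => rfl
    have cov_inv : ∀ σ τ, Covers σ τ → Covers σ⁻¹ τ⁻¹ := by
      intro σ τ h a
      rw [Perm.inv_eq_iff_eq, h]
      simp
    have cov_pow : ∀ σ τ (k : ℕ), Covers σ τ → Covers (σ ^ k) (τ ^ k) := by
      intro σ τ k h
      induction k with
      | zero => simpa using cov_one
      | succ k ih => rw [pow_succ, pow_succ]; exact cov_mul _ _ _ _ ih h
    have cov_unique : ∀ σ τ τ', Covers σ τ → Covers σ τ' → τ = τ' := by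
      intro σ τ τ' h h'
      ext C
      obtain ⟨a, rfl⟩ := hqsurj C
      rw [h, h']
    have cov_exists : ∀ t : Perm Ω, (∀ h ∈ P, t * h * t⁻¹ ∈ P) → (∀ h ∈ P, t⁻¹ * h * t⁻¹⁻¹ ∈ P) →
        ∃ τ, Covers t τ := by
      intro t ht ht'
      have h1 := hconj t ht
      have h2 := hconj t⁻¹ ht'
      refine ⟨⟨Quotient.map' t (fun a b h => h1 a b h), Quotient.map' (⇑t⁻¹) (fun a b h => h2 a b h), ?_, ?_⟩, ?_⟩
      · intro C
        obtain ⟨a, rfl⟩ := hqsurj C
        show q (t⁻¹ (t a)) = q a
        simp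
      · intro C
        obtain ⟨a, rfl⟩ := hqsurj C
        show q (t (t⁻¹ a)) = q a
        simp
      · intro a
        rfl
    -- fibres
    have hfib : ∀ x, Nat.card {z // q z = q x} = if moved x then 2 else 1 := by
      intro x
      by_cases hm : moved x
      · obtain ⟨y, hy, hs⟩ := id hm
        rw [if_pos hm]
        have : {z | q z = q x} = ({x, y} : Set Ω) := by
          ext z
          simp only [Set.mem_ofPred_eq, Set.mem_insert_iff, Set.mem_singleton_iff]
          rw [hq]
          constructor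
          · rintro (h | h)
            · exact Or.inl h
            · by_cases hzx : z = x
              · exact Or.inl hzx
              · by_cases hzy : z = y
                · exact Or.inr hzy
                · exact absurd (no_three hP.isP (Ne.symm hy) (Ne.symm hzx) (Ne.symm hzy) hs (by rwa [swap_comm])) id
          · rintro (rfl | rfl)
            · exact Or.inl rfl
            · exact Or.inr (by rwa [swap_comm])
        have h2 : Nat.card {z // q z = q x} = Set.ncard {z | q z = q x} := rfl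
        rw [h2, this, Set.ncard_pair (Ne.symm hy)]
      · rw [if_neg hm]
        have : {z | q z = q x} = ({x} : Set Ω) := by
          ext z
          simp only [Set.mem_ofPred_eq, Set.mem_singleton_iff]
          rw [hq]
          constructor
          · rintro (h | h)
            · exact h
            · by_contra hzx
              exact hm ⟨z, hzx, by rwa [swap_comm]⟩
          · rintro rfl
            exact Or.inl rfl
        have h2 : Nat.card {z // q z = q x} = Set.ncard {z | q z = q x} := rfl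
        rw [h2, this, Set.ncard_singleton]
    have hfl_iff : ∀ x x', fl x = fl x' → (moved x ↔ moved x') := by
      intro x x' h
      simp only [fl, decide_eq_decide] at h
      exact h
    -- lifting
    have hlift : ∀ τ ∈ colourGroup c', ∃ σ ∈ colourGroup c, Covers σ τ := by
      intro τ hτ
      have hcard : ∀ C : Quotient s, Nat.card {z // q z = C} = Nat.card {z // q z = τ C} := by
        intro C
        obtain ⟨x, rfl⟩ := hqsurj C
        obtain ⟨x', hx'⟩ := hqsurj (τ (q x))
        rw [← hx', hfib, hfib]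
        have h1 : c' (q x') = c' (q x) := by rw [hx']; exact hτ _
        rw [hc', hc'] at h1
        have h2 := congrArg Prod.snd h1
        have h3 := hfl_iff _ _ h2
        simp only [h3]
      let F : ∀ C : Quotient s, {z // q z = C} ≃ {z // q z = τ C} := fun C =>
        Classical.choice (Finite.card_eq.mp (hcard C))
      let σ : Perm Ω := (Equiv.sigmaFiberEquiv q).symm.trans
        ((Equiv.sigmaCongr τ F).trans (Equiv.sigmaFiberEquiv q))
      have hσ : ∀ a, q (σ a) = τ (q a) := by
        intro a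
        have : σ a = (F (q a) ⟨a, rfl⟩).1 := rfl
        rw [this]
        exact (F (q a) ⟨a, rfl⟩).2
      refine ⟨σ, ?_, fun a => (hσ a).symm⟩
      intro a
      have h1 : c' (q (σ a)) = c' (q a) := by rw [hσ]; exact hτ _
      rw [hc', hc'] at h1
      exact congrArg Prod.fst h1
    -- the image
    let P' : Subgroup (Perm (Quotient s)) :=
      { carrier := {τ | ∃ p ∈ P, Covers p τ}
        mul_mem' := by
          rintro τ τ' ⟨p, hp, h⟩ ⟨p', hp', h'⟩
          exact ⟨p * p', P.mul_mem hp hp', cov_mul _ _ _ _ h h'⟩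
        one_mem' := ⟨1, P.one_mem, cov_one⟩
        inv_mem' := by
          rintro τ ⟨p, hp, h⟩
          exact ⟨p⁻¹, P.inv_mem hp, cov_inv _ _ h⟩ }
    have hcov1 : ∀ σ, Covers σ 1 → ∀ a, rel a (σ a) := by
      intro σ h a
      rw [← hq, ← h]
      rfl
    have hker : ∀ σ, Covers σ 1 → σ ∈ P := by
      intro σ h
      refine mem_of_rel hP rel (fun a => Or.inl rfl) rel_symm rel_trans ?_ ?_ c_rel σ (hcov1 σ h)
      · rintro a b d (rfl | h1) (rfl | h2)
        · exact Or.inl rfl
        · exact Or.inl rfl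
        · exact Or.inr (Or.inl rfl)
        · by_cases hb : b = a
          · exact Or.inl hb
          · by_cases hd : d = a
            · exact Or.inr (Or.inl hd)
            · by_cases hbd : b = d
              · exact Or.inr (Or.inr hbd)
              · exact absurd (no_three hP.isP (Ne.symm hb) (Ne.symm hd) hbd h1 h2) id
      · intro p hp a b h
        exact hconj p (hPconj p hp) a b h
    have hcov_eq_one : ∀ τ : Perm (Quotient s), Covers 1 τ → τ = 1 := fun τ h => cov_unique _ _ _ h cov_one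
    have hP' : MaxIn c' P' := by
      refine ⟨?_, ?_, ?_⟩
      · rintro ⟨τ, p, hp, h⟩
        obtain ⟨k, hk⟩ := hP.isP ⟨p, hp⟩
        refine ⟨k, ?_⟩
        apply Subtype.ext
        show τ ^ (2 ^ k) = 1
        have hk' : p ^ (2 ^ k) = 1 := by
          have := congrArg Subtype.val hk
          simpa using this
        have := cov_pow _ _ (2 ^ k) h
        rw [hk'] at this
        exact hcov_eq_one _ this
      · rintro τ ⟨p, hp, h⟩ C
        obtain ⟨a, rfl⟩ := hqsurj C
        rw [h, hc', hc', hP.le hp a, fl_conj p (hPconj p hp) (by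
          intro h' hh'
          rw [inv_inv]
          exact P.mul_mem (P.mul_mem (P.inv_mem hp) hh') hp) a]
      · intro Q' hQ'2 hQ'c hPQ' τ hτ
        let Q : Subgroup (Perm Ω) :=
          { carrier := {σ | σ ∈ colourGroup c ∧ ∃ τ ∈ Q', Covers σ τ}
            mul_mem' := by
              rintro σ σ' ⟨h1, τ, hτ, h2⟩ ⟨h1', τ', hτ', h2'⟩
              exact ⟨(colourGroup c).mul_mem h1 h1', τ * τ', Q'.mul_mem hτ hτ', cov_mul _ _ _ _ h2 h2'⟩
            one_mem' := ⟨(colourGroup c).one_mem, 1, Q'.one_mem, cov_one⟩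
            inv_mem' := by
              rintro σ ⟨h1, τ, hτ, h2⟩
              exact ⟨(colourGroup c).inv_mem h1, τ⁻¹, Q'.inv_mem hτ, cov_inv _ _ h2⟩ }
        have hQ2 : IsPGroup 2 Q := by
          rintro ⟨σ, hσc, τ, hτ, hcov⟩
          obtain ⟨k, hk⟩ := hQ'2 ⟨τ, hτ⟩
          have hk' : τ ^ (2 ^ k) = 1 := by
            have := congrArg Subtype.val hk
            simpa using this
          have h1 := cov_pow _ _ (2 ^ k) hcov
          rw [hk'] at h1
          have h2 := hker _ h1
          obtain ⟨m, hm⟩ := hP.isP ⟨_, h2⟩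
          have hm' : (σ ^ (2 ^ k)) ^ (2 ^ m) = 1 := by
            have := congrArg Subtype.val hm
            simpa using this
          refine ⟨k + m, ?_⟩
          apply Subtype.ext
          show σ ^ (2 ^ (k + m)) = 1
          rw [pow_add, pow_mul]
          exact hm'
        have hQc : Q ≤ colourGroup c := fun σ hσ => hσ.1
        have hPQ : P ≤ Q := by
          intro p hp
          refine ⟨hP.le hp, ?_⟩
          obtain ⟨τ, hτ⟩ := cov_exists p (hPconj p hp) (by
            intro h' hh'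
            rw [inv_inv]
            exact P.mul_mem (P.mul_mem (P.inv_mem hp) hh') hp)
          exact ⟨τ, hPQ' ⟨p, hp, hτ⟩, hτ⟩
        have hQP := hP.max Q hQ2 hQc hPQ
        obtain ⟨σ, hσc, hσ⟩ := hlift τ (hQ'c hτ)
        exact ⟨σ, hQP ⟨hσc, τ, hτ, hσ⟩, hσ⟩
    -- the action of `g`
    obtain ⟨τg, hτg⟩ := cov_exists g hgconj hgconj'
    have hτgc : τg ∈ colourGroup c' := by
      intro C
      obtain ⟨a, rfl⟩ := hqsurj C
      rw [hτg, hc', hc', hgc a, fl_conj g hgconj hgconj' a]
    have hτgn : τg ∈ Subgroup.normalizer (P' : Set (Perm (Quotient s))) := by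
      rw [Subgroup.mem_normalizer_iff]
      intro h
      constructor
      · rintro ⟨p, hp, hcov⟩
        exact ⟨g * p * g⁻¹, hgconj p hp, cov_mul _ _ _ _ (cov_mul _ _ _ _ hτg hcov) (cov_inv _ _ hτg)⟩
      · rintro ⟨p, hp, hcov⟩
        refine ⟨g⁻¹ * p * g, ?_, ?_⟩
        · have := hgconj' p hp
          rwa [inv_inv] at this
        · have := cov_mul _ _ _ _ (cov_mul _ _ _ _ (cov_inv _ _ hτg) hcov) hτg
          have h3 : τg⁻¹ * (τg * h * τg⁻¹) * τg = h := by group
          rwa [h3] at this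
    have hlt : Nat.card (Quotient s) < n := by
      rw [← hn]
      haveI := Fintype.ofFinite Ω
      haveI := Fintype.ofFinite (Quotient s)
      rw [Nat.card_eq_fintype_card, Nat.card_eq_fintype_card]
      apply Fintype.card_lt_of_surjective_not_injective q hqsurj
      intro hinj
      exact hab₀ (hinj ((hq _ _).mpr (Or.inr hs₀)))
    obtain ⟨p, hp, hcov⟩ := ih _ hlt (Quotient s) (C × Bool) c' P' hP' τg hτgc hτgn rfl
    have h1 : Covers (p⁻¹ * g) 1 := by
      have := cov_mul _ _ _ _ (cov_inv _ _ hcov) hτg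
      rwa [inv_mul_cancel] at this
    have h2 := hker _ h1
    have h3 : g = p * (p⁻¹ * g) := by group
    rw [h3]
    exact P.mul_mem hp h2
  · have hfix : ∀ p ∈ P, ∀ x, p x = x := by
      intro p hp x
      by_contra h
      obtain ⟨y, hy, hs⟩ := exists_partner hP x ⟨p, hp, h⟩
      exact hpair ⟨x, y, hy.symm, hs⟩
    have hinj : ∀ a b, c a = c b → a = b := by
      intro a b hab
      by_contra hne
      exact hpair ⟨a, b, hne, swap_mem_of_fixed hP hab (fun p hp => hfix p hp a) (fun p hp => hfix p hp b)⟩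
    have : g = 1 := by
      ext x
      exact hinj _ _ (hgc x)
    rw [this]
    exact P.one_mem

omit [DecidableEq Ω] in
theorem mem_of_mem_normalizer [Finite Ω] (hP : MaxIn c P) {g : Perm Ω} (hgc : g ∈ colourGroup c)
    (hgn : g ∈ Subgroup.normalizer (P : Set (Perm Ω))) : g ∈ P :=
  mem_of_mem_normalizer_aux _ Ω C c P hP g hgc hgn rfl

omit [DecidableEq Ω] in
theorem maxIn_of_sylow [Finite Ω] (P : Sylow 2 (Perm Ω)) : MaxIn (fun _ : Ω => ()) (P : Subgroup (Perm Ω)) := by
  refine ⟨P.isPGroup', fun _ _ _ => rfl, ?_⟩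
  intro Q hQ _ hPQ
  exact (P.is_maximal' hQ hPQ).le

omit [DecidableEq Ω] in
/-- The Sylow `2`-subgroups of a symmetric group are self-normalising. -/
theorem sylow_perm_normalizer_le [Finite Ω] (P : Sylow 2 (Perm Ω)) :
    Subgroup.normalizer ((P : Subgroup (Perm Ω)) : Set (Perm Ω)) ≤ P := fun _ hg =>
  mem_of_mem_normalizer (maxIn_of_sylow P) (fun _ => rfl) hg

section Alternating

variable {PS : Subgroup (Perm Ω)}

theorem partner_unique [Finite Ω] (hPS : IsPGroup 2 PS) {x y s : Ω} (hy : x ≠ y) (hs : x ≠ s)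
    (h1 : swap x y ∈ PS) (h2 : swap x s ∈ PS) : s = y := by
  by_contra hne
  exact no_three hPS hy hs (Ne.symm hne) h1 h2

theorem eq_of_not_moved [Finite Ω] (hPS : MaxIn (fun _ : Ω => ()) PS) {a b : Ω}
    (ha : ∀ p ∈ PS, p a = a) (hb : ∀ p ∈ PS, p b = b) : a = b := by
  have := ha _ (swap_mem_of_fixed hPS rfl ha hb)
  rw [swap_apply_left] at this
  exact this.symm

variable [Fintype Ω]

theorem exists_third (hcard : 6 ≤ Fintype.card Ω) (hPS : MaxIn (fun _ : Ω => ()) PS) {x y z w : Ω}
    (hxy : x ≠ y) (hzw : z ≠ w) (h1 : swap x y ∈ PS) (h2 : swap z w ∈ PS) :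
    ∃ u v, u ≠ v ∧ swap u v ∈ PS ∧ u ∉ ({x, y, z, w} : Finset Ω) ∧ v ∉ ({x, y, z, w} : Finset Ω) := by
  set T : Finset Ω := {x, y, z, w} with hT
  have hTc : T.card ≤ 4 := Finset.card_le_four
  have hc : 1 < (Tᶜ).card := by
    rw [Finset.card_compl]
    omega
  obtain ⟨a, ha, b, hb, hab⟩ := Finset.one_lt_card.mp hc
  rw [Finset.mem_compl] at ha hb
  have hclosed : ∀ t ∈ T, ∀ s, s ≠ t → swap t s ∈ PS → s ∈ T := by
    intro t ht s hs hts
    simp only [hT, Finset.mem_insert, Finset.mem_singleton] at ht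
    rcases ht with rfl | rfl | rfl | rfl
    · have := partner_unique hPS.isP hxy (Ne.symm hs) h1 hts
      simp [hT, this]
    · have := partner_unique hPS.isP (Ne.symm hxy) (Ne.symm hs) (by rwa [swap_comm]) hts
      simp [hT, this]
    · have := partner_unique hPS.isP hzw (Ne.symm hs) h2 hts
      simp [hT, this]
    · have := partner_unique hPS.isP (Ne.symm hzw) (Ne.symm hs) (by rwa [swap_comm]) hts
      simp [hT, this]
  -- one of `a`, `b` is moved
  have hmoved : ∃ u, u ∉ T ∧ ∃ p ∈ PS, p u ≠ u := by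
    by_contra hno
    push Not at hno
    exact hab (eq_of_not_moved hPS (hno a ha) (hno b hb))
  obtain ⟨u, huT, hum⟩ := hmoved
  obtain ⟨v, hvu, hs⟩ := exists_partner hPS u hum
  refine ⟨u, v, Ne.symm hvu, hs, huT, ?_⟩
  intro hvT
  exact huT (hclosed v hvT u (Ne.symm hvu) (by rwa [swap_comm]))

theorem exists_pair (hcard : 6 ≤ Fintype.card Ω) (hPS : MaxIn (fun _ : Ω => ()) PS) :
    ∃ x y, x ≠ y ∧ swap x y ∈ PS := by
  have hc : 1 < Fintype.card Ω := by omega
  obtain ⟨a, b, hab⟩ := Fintype.one_lt_card_iff.mp hc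
  have hmoved : ∃ u, ∃ p ∈ PS, p u ≠ u := by
    by_contra hno
    push Not at hno
    exact hab (eq_of_not_moved hPS (hno a) (hno b))
  obtain ⟨u, hum⟩ := hmoved
  obtain ⟨v, hvu, hs⟩ := exists_partner hPS u hum
  exact ⟨u, v, Ne.symm hvu, hs⟩

theorem alt_conj_mem (hcard : 6 ≤ Fintype.card Ω) (hPS : MaxIn (fun _ : Ω => ()) PS) {g : Perm Ω}
    (hg : g ∈ Subgroup.normalizer ((PS ⊓ alternatingGroup Ω : Subgroup (Perm Ω)) : Set (Perm Ω))) :
    ∀ σ ∈ PS, g * σ * g⁻¹ ∈ PS := by
  rw [Subgroup.mem_normalizer_iff] at hg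
  have hconjA : ∀ h ∈ PS ⊓ alternatingGroup Ω, g * h * g⁻¹ ∈ PS ⊓ alternatingGroup Ω :=
    fun h hh => (hg h).mp hh
  have hconjA' : ∀ h ∈ PS ⊓ alternatingGroup Ω, g⁻¹ * h * g ∈ PS ⊓ alternatingGroup Ω := by
    intro h hh
    rw [SetLike.mem_coe.symm.trans (hg _)]
    simpa [mul_assoc] using hh
  have hpair : ∀ {a b u v : Ω}, a ≠ b → u ≠ v → swap a b ∈ PS → swap u v ∈ PS →
      swap a b * swap u v ∈ PS ⊓ alternatingGroup Ω := by
    intro a b u v hab huv h1 h2
    refine Subgroup.mem_inf.mpr ⟨PS.mul_mem h1 h2, ?_⟩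
    rw [Perm.mem_alternatingGroup, map_mul, Perm.sign_swap hab, Perm.sign_swap huv]
    simp
  have hmovedA : ∀ x y, x ≠ y → swap x y ∈ PS → ∃ p ∈ PS ⊓ alternatingGroup Ω, p x ≠ x := by
    intro x y hxy hs
    obtain ⟨u, v, huv, hsuv, hu, hv⟩ := exists_third hcard hPS hxy hxy hs hs
    refine ⟨_, hpair hxy huv hs hsuv, ?_⟩
    have hu' : x ≠ u := by
      rintro rfl
      simp at hu
    have hv' : x ≠ v := by
      rintro rfl
      simp at hv
    rw [Perm.mul_apply, swap_apply_of_ne_of_ne hu' hv', swap_apply_left]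
    exact Ne.symm hxy
  have hmoved_g : ∀ x y, x ≠ y → swap x y ∈ PS → ∃ w, w ≠ g x ∧ swap (g x) w ∈ PS := by
    intro x y hxy hs
    obtain ⟨p, hp, hpx⟩ := hmovedA x y hxy hs
    refine exists_partner hPS (g x) ⟨g * p * g⁻¹, (hconjA p hp).1, ?_⟩
    have h0 : (g * p * g⁻¹) (g x) = g (p x) := by simp [Perm.mul_apply]
    rw [h0]
    exact fun h => hpx (g.injective h)
  have key : ∀ x y, x ≠ y → swap x y ∈ PS → swap (g x) (g y) ∈ PS := by
    intro x y hxy hs
    obtain ⟨w, hw, hsw⟩ := hmoved_g x y hxy hs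
    obtain ⟨w', hw', hsw'⟩ := hmoved_g y x (Ne.symm hxy) (by rwa [swap_comm])
    by_cases hwy : w = g y
    · rwa [hwy] at hsw
    exfalso
    have hgxy : g x ≠ g y := fun h => hxy (g.injective h)
    have h2 : w' ≠ g x := by
      intro h
      rw [h, swap_comm] at hsw'
      exact hwy (partner_unique hPS.isP hgxy (Ne.symm hw) hsw' hsw)
    have h3 : w' ≠ w := by
      intro h
      rw [h] at hsw'
      rw [swap_comm] at hsw hsw'
      exact no_three hPS.isP hw hwy hgxy hsw hsw'
    obtain ⟨u, v, huv, hsuv, hu, hv⟩ := exists_third hcard hPS (Ne.symm hw) (Ne.symm hw') hsw hsw'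
    simp only [Finset.mem_insert, Finset.mem_singleton, not_or] at hu hv
    have ht := hpair (Ne.symm hw') huv hsw' hsuv
    have hs1 := hconjA' _ ht
    set s := g⁻¹ * (swap (g y) w' * swap u v) * g with hsdef
    have hsx : s x = x := by
      simp only [hsdef, Perm.mul_apply]
      rw [swap_apply_of_ne_of_ne (Ne.symm hu.1) (Ne.symm hv.1),
        swap_apply_of_ne_of_ne hgxy (Ne.symm h2)]
      simp
    have hsy : s y ≠ y := by
      simp only [hsdef, Perm.mul_apply]
      rw [swap_apply_of_ne_of_ne (Ne.symm hu.2.2.1) (Ne.symm hv.2.2.1), swap_apply_left]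
      intro h
      apply hw'
      rw [Perm.inv_eq_iff_eq] at h
      exact h
    have hsS : s ∈ PS := hs1.1
    have h5 : swap x (s y) ∈ PS := by
      have := PS.mul_mem (PS.mul_mem hsS hs) (PS.inv_mem hsS)
      rw [← swap_apply_apply, hsx] at this
      exact this
    have hxsy : x ≠ s y := by
      intro h
      have : s x = s y := by rw [hsx]; exact h
      exact hxy (s.injective this)
    exact hsy (partner_unique hPS.isP hxy hxsy hs h5)
  intro σ hσ
  by_cases hev : σ ∈ alternatingGroup Ω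
  · exact (hconjA σ ⟨hσ, hev⟩).1
  · obtain ⟨x, y, hxy, hs⟩ := exists_pair hcard hPS
    have hσs : Perm.sign σ = -1 := by
      rw [Perm.mem_alternatingGroup] at hev
      rcases Int.units_eq_one_or (Perm.sign σ) with h | h
      · exact absurd h hev
      · exact h
    have h1 : σ * swap x y ∈ PS ⊓ alternatingGroup Ω := by
      refine Subgroup.mem_inf.mpr ⟨PS.mul_mem hσ hs, ?_⟩
      rw [Perm.mem_alternatingGroup, map_mul, hσs, Perm.sign_swap hxy]
      simp
    have h2 := (hconjA _ h1).1
    have h3 := key x y hxy hs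
    rw [swap_apply_apply] at h3
    have h4 := PS.mul_mem h2 (PS.inv_mem h3)
    have h5 : g * (σ * swap x y) * g⁻¹ * (g * swap x y * g⁻¹)⁻¹ = g * σ * g⁻¹ := by
      group
    rwa [h5] at h4

theorem alt_mem_of_normalizer (hcard : 6 ≤ Fintype.card Ω) (hPS : MaxIn (fun _ : Ω => ()) PS) {g : Perm Ω}
    (hgA : g ∈ alternatingGroup Ω)
    (hg : g ∈ Subgroup.normalizer ((PS ⊓ alternatingGroup Ω : Subgroup (Perm Ω)) : Set (Perm Ω))) :
    g ∈ PS ⊓ alternatingGroup Ω := by
  refine ⟨?_, hgA⟩
  apply mem_of_mem_normalizer hPS (fun _ => rfl)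
  rw [Subgroup.mem_normalizer_iff]
  intro h
  constructor
  · exact alt_conj_mem hcard hPS hg h
  · intro hh
    have := alt_conj_mem hcard hPS (Subgroup.inv_mem _ hg) _ hh
    have h2 : g⁻¹ * (g * h * g⁻¹) * g⁻¹⁻¹ = h := by group
    rwa [h2] at this

/-- The Sylow `2`-subgroups of the alternating groups of degree at least `6` are self-normalising. -/
theorem sylow_alt_normalizer_le (hcard : 6 ≤ Fintype.card Ω) (P : Sylow 2 (alternatingGroup Ω)) :
    Subgroup.normalizer ((P : Subgroup (alternatingGroup Ω)) : Set (alternatingGroup Ω)) ≤ P := by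
  intro g hg
  let PA : Subgroup (Perm Ω) := (P : Subgroup (alternatingGroup Ω)).map (alternatingGroup Ω).subtype
  have hPA : IsPGroup 2 PA := P.isPGroup'.map _
  obtain ⟨PS, hle⟩ := hPA.exists_le_sylow
  have heq : (PS : Subgroup (Perm Ω)) ⊓ alternatingGroup Ω = PA := by
    apply le_antisymm
    · rintro σ ⟨h1, h2⟩
      have hQ : IsPGroup 2 ((PS : Subgroup (Perm Ω)).comap (alternatingGroup Ω).subtype) :=
        PS.isPGroup'.comap_of_injective _ (alternatingGroup Ω).subtype_injective
      have hPQ : (P : Subgroup (alternatingGroup Ω)) ≤ (PS : Subgroup (Perm Ω)).comap (alternatingGroup Ω).subtype := by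
        intro p hp
        exact hle ⟨p, hp, rfl⟩
      have := P.is_maximal' hQ hPQ
      have h3 : (⟨σ, h2⟩ : alternatingGroup Ω) ∈ (P : Subgroup (alternatingGroup Ω)) := by
        rw [← this]
        exact h1
      exact ⟨⟨σ, h2⟩, h3, rfl⟩
    · refine le_inf hle ?_
      rintro _ ⟨p, _, rfl⟩
      exact p.2
  have hgN : (g : Perm Ω) ∈ Subgroup.normalizer (((PS : Subgroup (Perm Ω)) ⊓ alternatingGroup Ω : Subgroup (Perm Ω)) : Set (Perm Ω)) := by
    rw [heq]
    rw [Subgroup.mem_normalizer_iff] at hg ⊢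
    intro h
    constructor
    · rintro ⟨p, hp, rfl⟩
      exact ⟨g * p * g⁻¹, (hg p).mp hp, rfl⟩
    · rintro ⟨p, hp, hpeq⟩
      have hhA : h = (g⁻¹ * p * g : alternatingGroup Ω) := by
        have : (g : Perm Ω) * h * (g : Perm Ω)⁻¹ = p := hpeq.symm
        have h4 : h = (g : Perm Ω)⁻¹ * p * g := by
          rw [← this]; group
        rw [h4]; rfl
      have hmem : g⁻¹ * p * g ∈ (P : Subgroup (alternatingGroup Ω)) :=
        (hg _).mpr (by
          have e : g * (g⁻¹ * p * g) * g⁻¹ = p := by group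
          rw [e]; exact hp)
      exact ⟨g⁻¹ * p * g, hmem, hhA.symm⟩
  have := alt_mem_of_normalizer hcard (maxIn_of_sylow PS) g.2 hgN
  rw [heq] at this
  obtain ⟨p, hp, hpeq⟩ := this
  have : p = g := Subtype.ext hpeq
  rwa [← this]

end Alternating

/-! ### Pronormality -/

theorem pronormal_of_sylow_le {G : Type*} [Group G] [Finite G] (H : Subgroup G) (P : Sylow 2 G)
    (hPH : (P : Subgroup G) ≤ H)
    (hN : ∀ g ∈ Subgroup.normalizer ((P : Subgroup G) : Set G), H.map (MulAut.conj g).toMonoidHom = H)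
    (g : G) : ∃ x ∈ H ⊔ H.map (MulAut.conj g).toMonoidHom,
      H.map (MulAut.conj g).toMonoidHom = H.map (MulAut.conj x).toMonoidHom := by
  set K : Subgroup G := H ⊔ H.map (MulAut.conj g).toMonoidHom with hK
  have hPK : (P : Subgroup G) ≤ K := hPH.trans le_sup_left
  have hQK : ((g • P : Sylow 2 G) : Subgroup G) ≤ K := by
    intro y hy
    rw [Sylow.coe_subgroup_smul, Subgroup.mem_smul_pointwise_iff_exists] at hy
    obtain ⟨s, hs, rfl⟩ := hy
    exact (le_sup_right : H.map (MulAut.conj g).toMonoidHom ≤ K) ⟨s, hPH hs, rfl⟩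
  obtain ⟨k, hk⟩ := MulAction.exists_smul_eq K ((g • P).subtype hQK) (P.subtype hPK)
  simp_rw [Sylow.smul_subtype, Subgroup.smul_def, smul_smul] at hk
  have hn : (k : G) * g ∈ Subgroup.normalizer ((P : Subgroup G) : Set G) :=
    Sylow.smul_eq_iff_mem_normalizer.mp (Sylow.subtype_injective hk)
  have h1 := hN _ hn
  refine ⟨(k : G)⁻¹, K.inv_mem k.2, ?_⟩
  conv_rhs => rw [← h1]
  rw [Subgroup.map_map]
  congr 1
  ext y
  simp [MulAut.conj_apply]
  group

theorem map_conj_eq_of_mem_normalizer {G : Type*} [Group G] {H : Subgroup G} {g : G}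
    (hg : g ∈ Subgroup.normalizer (H : Set G)) : H.map (MulAut.conj g).toMonoidHom = H := by
  rw [Subgroup.mem_normalizer_iff] at hg
  ext y
  constructor
  · rintro ⟨h, hh, rfl⟩
    exact (hg h).mp hh
  · intro hy
    refine ⟨g⁻¹ * y * g, (hg _).mpr (by
      have e : g * (g⁻¹ * y * g) * g⁻¹ = y := by group
      rw [e]; exact hy), ?_⟩
    simp [MulAut.conj_apply, mul_assoc]

theorem map_conj_eq_of_mem {G : Type*} [Group G] {H : Subgroup G} {g : G} (hg : g ∈ H) :
    H.map (MulAut.conj g).toMonoidHom = H :=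
  map_conj_eq_of_mem_normalizer (Subgroup.le_normalizer hg)

/-- A subgroup of odd index contains a Sylow `2`-subgroup. -/
theorem exists_sylow_le_of_odd_index {G : Type*} [Group G] [Finite G] (H : Subgroup G) (hH : Odd H.index) :
    ∃ P : Sylow 2 G, (P : Subgroup G) ≤ H := by
  obtain ⟨Q⟩ : Nonempty (Sylow 2 G) := inferInstance
  have hnd : ¬ 2 ∣ Nat.card (G ⧸ H) := by
    have : Nat.card (G ⧸ H) = H.index := rfl
    rw [this]
    exact hH.not_two_dvd_nat
  obtain ⟨x, hx⟩ := Q.isPGroup'.nonempty_fixed_point_of_prime_not_dvd_card (G ⧸ H) hnd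
  obtain ⟨g, rfl⟩ := QuotientGroup.mk_surjective x
  refine ⟨g⁻¹ • Q, ?_⟩
  intro y hy
  rw [Sylow.coe_subgroup_smul, Subgroup.mem_smul_pointwise_iff_exists] at hy
  obtain ⟨s, hs, rfl⟩ := hy
  have h1 := hx ⟨s, hs⟩
  have h2 : ((s * g : G) : G ⧸ H) = (g : G ⧸ H) := h1
  rw [QuotientGroup.eq] at h2
  have h3 : (H : Subgroup G) = H := rfl
  have h4 : g⁻¹ * s * g = (g⁻¹ * s⁻¹ * g)⁻¹ := by group
  simp only [MulAut.smul_def, map_inv, MulAut.conj_inv_apply]
  have h5 : (s * g)⁻¹ * g = g⁻¹ * s⁻¹ * g := by group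
  rw [h5] at h2
  rw [h4]
  exact H.inv_mem h2

section A5

theorem a5_dec : ∀ t : Perm (Fin 5), ∀ e a : Fin 5, Perm.sign t = 1 → t ^ 4 = 1 → t e = e → t a = a → e ≠ a → t = 1 := by
  decide +kernel

theorem a5_normalized (H : Subgroup (alternatingGroup (Fin 5))) (hH : Odd H.index)
    (P : Sylow 2 (alternatingGroup (Fin 5))) (hPH : (P : Subgroup (alternatingGroup (Fin 5))) ≤ H)
    (g : alternatingGroup (Fin 5))
    (hg : g ∈ Subgroup.normalizer ((P : Subgroup (alternatingGroup (Fin 5))) : Set (alternatingGroup (Fin 5)))) :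
    H.map (MulAut.conj g).toMonoidHom = H := by
  classical
  have hG : Nat.card (alternatingGroup (Fin 5)) = 60 := by
    rw [Nat.card_eq_fintype_card, card_alternatingGroup]
    rfl
  have h4P : Nat.card (P : Subgroup (alternatingGroup (Fin 5))) = 4 := by
    have h1 : 2 ^ 2 ∣ Nat.card (P : Subgroup (alternatingGroup (Fin 5))) :=
      P.pow_dvd_card_of_pow_dvd_card (by rw [hG]; norm_num)
    obtain ⟨k, hk⟩ := IsPGroup.iff_card.mp P.isPGroup'
    have h2 : Nat.card (P : Subgroup (alternatingGroup (Fin 5))) ∣ 60 := by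
      rw [← hG]; exact Subgroup.card_subgroup_dvd_card _
    rw [hk] at h1 h2 ⊢
    have hk2 : 2 ≤ k := (Nat.pow_dvd_pow_iff_le_right (by norm_num)).mp h1
    have hk3 : k < 3 := by
      by_contra hc
      have : 2 ^ 3 ∣ 2 ^ k := pow_dvd_pow 2 (by omega)
      have := this.trans h2
      norm_num at this
    have : k = 2 := by omega
    rw [this]; norm_num
  obtain ⟨e, he⟩ := P.isPGroup'.nonempty_fixed_point_of_prime_not_dvd_card (Fin 5) (by simp)
  have hPe : ∀ p ∈ (P : Subgroup (alternatingGroup (Fin 5))), (p : Perm (Fin 5)) e = e := fun p hp => he ⟨p, hp⟩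
  have hP4 : ∀ p ∈ (P : Subgroup (alternatingGroup (Fin 5))), (p : Perm (Fin 5)) ^ 4 = 1 := by
    intro p hp
    have := pow_card_eq_one' (x := (⟨p, hp⟩ : (P : Subgroup (alternatingGroup (Fin 5)))))
    rw [h4P] at this
    have h2 := congrArg (fun x : (P : Subgroup (alternatingGroup (Fin 5))) => ((x : alternatingGroup (Fin 5)) : Perm (Fin 5))) this
    simpa using h2
  have hfree : ∀ p ∈ (P : Subgroup (alternatingGroup (Fin 5))), ∀ a, a ≠ e → (p : Perm (Fin 5)) a = a → p = 1 := by
    intro p hp a ha hpa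
    apply Subtype.ext
    exact a5_dec _ e a p.2 (hP4 p hp) (hPe p hp) hpa (Ne.symm ha)
  have htrans : ∀ a b : Fin 5, a ≠ e → b ≠ e → ∃ p ∈ (P : Subgroup (alternatingGroup (Fin 5))), (p : Perm (Fin 5)) a = b := by
    intro a b ha hb
    let f : ↥(P : Subgroup (alternatingGroup (Fin 5))) → {x : Fin 5 // x ≠ e} := fun p =>
      ⟨((p : alternatingGroup (Fin 5)) : Perm (Fin 5)) a, by
        intro h
        apply ha
        have h2 := hPe p p.2
        exact ((p : alternatingGroup (Fin 5)) : Perm (Fin 5)).injective (h.trans h2.symm)⟩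
    have hinj : Function.Injective f := by
      intro p q hpq
      have h1 : ((p : alternatingGroup (Fin 5)) : Perm (Fin 5)) a = ((q : alternatingGroup (Fin 5)) : Perm (Fin 5)) a := congrArg Subtype.val hpq
      have h2 : (q : alternatingGroup (Fin 5))⁻¹ * p = 1 := by
        apply hfree _ ((P : Subgroup (alternatingGroup (Fin 5))).mul_mem ((P : Subgroup (alternatingGroup (Fin 5))).inv_mem q.2) p.2) a ha
        simp [Perm.mul_apply, h1]
      apply Subtype.ext
      exact (inv_mul_eq_one.mp h2).symm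
    have hcard : Nat.card (P : Subgroup (alternatingGroup (Fin 5))) = Nat.card {x : Fin 5 // x ≠ e} := by
      rw [h4P, Nat.card_eq_fintype_card, Fintype.card_subtype_compl]
      simp
    have hbij := (Nat.bijective_iff_injective_and_card f).mpr ⟨hinj, hcard⟩
    obtain ⟨p, hp⟩ := hbij.2 ⟨b, hb⟩
    exact ⟨p, p.2, congrArg Subtype.val hp⟩
  have huniq : ∀ a, (∀ p ∈ (P : Subgroup (alternatingGroup (Fin 5))), (p : Perm (Fin 5)) a = a) → a = e := by
    intro a hpa
    by_contra hae
    have hP1 : (P : Subgroup (alternatingGroup (Fin 5))) = ⊥ := by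
      rw [eq_bot_iff]
      intro p hp
      exact hfree p hp a hae (hpa p hp)
    rw [hP1] at h4P
    simp at h4P
  have hgfix : (g : Perm (Fin 5)) e = e := by
    apply huniq
    intro p hp
    rw [Subgroup.mem_normalizer_iff] at hg
    have h1 : g⁻¹ * p * g ∈ (P : Subgroup (alternatingGroup (Fin 5))) := by
      have : g * (g⁻¹ * p * g) * g⁻¹ ∈ (P : Subgroup (alternatingGroup (Fin 5))) := by
        have e1 : g * (g⁻¹ * p * g) * g⁻¹ = p := by group
        rw [e1]; exact hp
      exact (hg _).mpr this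
    have h2 := hPe _ h1
    have h3 : ((p : Perm (Fin 5))) ((g : Perm (Fin 5)) e) = (g : Perm (Fin 5)) ((((g⁻¹ * p * g : alternatingGroup (Fin 5))) : Perm (Fin 5)) e) := by
      simp [Perm.mul_apply]
    rw [h3, h2]
  have hHdvd4 : 4 ∣ Nat.card H := by
    rw [← h4P]
    exact Subgroup.card_dvd_of_le hPH
  have hHdvd60 : Nat.card H ∣ 60 := by
    rw [← hG]; exact Subgroup.card_subgroup_dvd_card _
  by_cases hmove : ∃ h ∈ H, (h : Perm (Fin 5)) e ≠ e
  · obtain ⟨h, hh, hhe⟩ := hmove
    have horb : ∀ b : Fin 5, ∃ x ∈ H, (x : Perm (Fin 5)) e = b := by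
      intro b
      by_cases hb : b = e
      · exact ⟨1, H.one_mem, by simp [hb]⟩
      · obtain ⟨p, hp, hpb⟩ := htrans _ b hhe hb
        exact ⟨p * h, H.mul_mem (hPH hp) hh, by simpa [Perm.mul_apply] using hpb⟩
    have horbit : MulAction.orbit H e = Set.univ := by
      ext b
      simp only [Set.mem_univ, iff_true]
      obtain ⟨x, hx, hxb⟩ := horb b
      exact ⟨⟨x, hx⟩, hxb⟩
    have h5 : 5 ∣ Nat.card H := by
      have := MulAction.card_orbit_mul_card_stabilizer_eq_card_group H e
      simp only [← Nat.card_eq_fintype_card] at this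
      rw [horbit] at this
      have h6 : Nat.card (Set.univ : Set (Fin 5)) = 5 := by simp
      rw [h6] at this
      exact ⟨_, this.symm⟩
    have h20 : 20 ∣ Nat.card H := Nat.Coprime.mul_dvd_of_dvd_of_dvd (by norm_num) hHdvd4 h5
    obtain ⟨k, hk⟩ := h20
    have hk60 : k ∣ 3 := by
      rw [hk] at hHdvd60
      have : 20 * k ∣ 20 * 3 := by simpa using hHdvd60
      exact (Nat.mul_dvd_mul_iff_left (by norm_num)).mp this
    have hk13 : k = 1 ∨ k = 3 := (Nat.dvd_prime (by norm_num)).mp hk60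
    rcases hk13 with rfl | rfl
    · -- index three is impossible
      exfalso
      have hidx : H.index = 3 := by
        have := H.card_mul_index
        rw [hG, hk] at this
        omega
      haveI : IsSimpleGroup (alternatingGroup (Fin 5)) := alternatingGroup.isSimpleGroup (by simp)
      rcases (inferInstance : H.normalCore.Normal).eq_bot_or_eq_top with h1 | h1
      · have h2 : H.normalCore.index ∣ (H.index).factorial := by
          rw [Subgroup.normalCore_eq_ker, Subgroup.index_ker, Subgroup.index_eq_card, ← Nat.card_perm]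
          exact Subgroup.card_subgroup_dvd_card (MulAction.toPermHom _ _).range
        rw [h1, Subgroup.index_bot, hG, hidx] at h2
        revert h2
        decide
      · have h2 : H = ⊤ := by
          rw [eq_top_iff, ← h1]
          exact Subgroup.normalCore_le H
        rw [h2, Subgroup.index_top] at hidx
        omega
    · have h2 : H = ⊤ := by
        apply Subgroup.eq_top_of_card_eq
        rw [hG, hk]
      rw [h2]
      exact Subgroup.map_top_of_surjective _ (MulEquiv.surjective _)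
  · push Not at hmove
    let S : Subgroup (alternatingGroup (Fin 5)) := MulAction.stabilizer (alternatingGroup (Fin 5)) e
    have hmemS : ∀ x, x ∈ S ↔ (x : Perm (Fin 5)) e = e := fun x => Iff.rfl
    have hHS : H ≤ S := fun x hx => hmove x hx
    have hS : Nat.card S = 12 := by
      have htr : MulAction.IsPretransitive (alternatingGroup (Fin 5)) (Fin 5) :=
        alternatingGroup.isPretransitive_of_three_le_card (Fin 5) (by simp)
      have := MulAction.card_orbit_mul_card_stabilizer_eq_card_group (alternatingGroup (Fin 5)) e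
      simp only [← Nat.card_eq_fintype_card] at this
      rw [MulAction.orbit_eq_univ] at this
      have h6 : Nat.card (Set.univ : Set (Fin 5)) = 5 := by simp
      rw [h6, hG] at this
      have h7 : Nat.card (MulAction.stabilizer (alternatingGroup (Fin 5)) e) = 12 := by omega
      exact h7
    have hH12 : Nat.card H ∣ 12 := by
      rw [← hS]; exact Subgroup.card_dvd_of_le hHS
    obtain ⟨k, hk⟩ := hHdvd4
    have hk3 : k ∣ 3 := by
      rw [hk] at hH12
      have : 4 * k ∣ 4 * 3 := by simpa using hH12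
      exact (Nat.mul_dvd_mul_iff_left (by norm_num)).mp this
    have hk13 : k = 1 ∨ k = 3 := (Nat.dvd_prime (by norm_num)).mp hk3
    rcases hk13 with rfl | rfl
    · have h2 : (P : Subgroup (alternatingGroup (Fin 5))) = H :=
        Subgroup.eq_of_le_of_card_ge hPH (by rw [h4P, hk])
      rw [← h2]
      exact map_conj_eq_of_mem_normalizer hg
    · have h2 : H = S := Subgroup.eq_of_le_of_card_ge hHS (by rw [hS, hk])
      rw [h2]
      exact map_conj_eq_of_mem ((hmemS g).mpr hgfix)

end A5

/-- Every subgroup of odd index of an alternating group of degree at least `5` is pronormal. -/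
theorem alt_odd_index_pronormal (n : ℕ) (hn : 5 ≤ n) (H : Subgroup (alternatingGroup (Fin n))) (hH : Odd H.index)
    (g : alternatingGroup (Fin n)) : ∃ x ∈ H ⊔ H.map (MulAut.conj g).toMonoidHom,
      H.map (MulAut.conj g).toMonoidHom = H.map (MulAut.conj x).toMonoidHom := by
  obtain ⟨P, hPH⟩ := exists_sylow_le_of_odd_index H hH
  by_cases h5 : n = 5
  · subst h5
    exact pronormal_of_sylow_le H P hPH (fun g hg => a5_normalized H hH P hPH g hg) g
  · refine pronormal_of_sylow_le H P hPH (fun g hg => ?_) g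
    have hcard : 6 ≤ Fintype.card (Fin n) := by
      rw [Fintype.card_fin]; omega
    exact map_conj_eq_of_mem (hPH (sylow_alt_normalizer_le hcard P hg))

end Cfsg.Agent.Lib.KnownSimple.SylowPerm
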